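import Groth.Agent.AssPtX.Noeth
import Groth.Agent.Triage.WeakAssFin
import Groth.Agent.QCoh.Qcqs

/-!
# Weakly associated points of direct images
-/

set_option autoImplicit false
set_option linter.style.haveILetI false
set_option backward.isDefEq.respectTransparency false
set_option backward.isDefEq.respectTransparency.types false

universe u

open CategoryTheory CategoryTheory.Limits AlgebraicGeometry TopologicalSpace Opposite

namespace Groth.Agent.AssPtX

open Groth.Agent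

variable {X S : Scheme.{u}} {F : X.Modules} (f : X ⟶ S)

/-- Annihilators of sections of a direct image. -/
theorem annEl_push {V : S.Opens} (n : Γ(F, f ⁻¹ᵁ V)) :
    WeakAss.annEl Γ(S, V) (show Γ((Scheme.Modules.pushforward f).obj F, V) from n) =
      (WeakAss.annEl Γ(X, f ⁻¹ᵁ V) n).comap (f.app V).hom := by
  ext r
  rw [Ideal.mem_comap, WeakAss.mem_annEl, WeakAss.mem_annEl]
  exact Iff.rfl

theorem isWeakAssPoint_push_of_minimal [QuasiCompact f] [QuasiSeparated f] (hF : Coh.IsQCoh F) {V : S.Opens}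
    (hV : IsAffineOpen V) {s : S} (hs : s ∈ V) (n : Γ(F, f ⁻¹ᵁ V))
    (hn : (hV.primeIdealOf ⟨s, hs⟩).asIdeal ∈
      ((WeakAss.annEl Γ(X, f ⁻¹ᵁ V) n).comap (f.app V).hom).minimalPrimes) :
    Curv2.IsWeakAssPoint ((Scheme.Modules.pushforward f).obj F) s :=
  (isWeakAssPoint_iff_sections (QCoh.isQCoh_pushforward f hF) hV hs).2
    (WeakAss.mem_weakAss_iff.2 ⟨_, by rw [annEl_push f n]; exact hn⟩)

theorem comap_primeIdeal {V : S.Opens} (hV : IsAffineOpen V) (hW : IsAffineOpen (f ⁻¹ᵁ V)) {x : X}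
    (hx : x ∈ f ⁻¹ᵁ V) :
    (hW.primeIdealOf ⟨x, hx⟩).asIdeal.comap (f.app V).hom = (hV.primeIdealOf ⟨f x, hx⟩).asIdeal := by
  rw [Scheme.Hom.app_eq_appLE]
  exact congrArg PrimeSpectrum.asIdeal (IsAffineOpen.comap_primeIdealOf_appLE V hV (f ⁻¹ᵁ V) hW le_rfl hx)

/-- Finite morphisms send weakly associated points to weakly associated points. -/
theorem isWeakAssPoint_push_of_finite [IsFinite f] (hF : Coh.IsQCoh F) {x : X}
    (hx : Curv2.IsWeakAssPoint F x) : Curv2.IsWeakAssPoint ((Scheme.Modules.pushforward f).obj F) (f x) := by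
  obtain ⟨V, hV, hxV, -⟩ := exists_isAffineOpen_mem_and_subset (x := f x) (U := ⊤) trivial
  have hW : IsAffineOpen (f ⁻¹ᵁ V) := hV.preimage f
  letI := (f.app V).hom.toAlgebra
  haveI : Module.Finite Γ(S, V) Γ(X, f ⁻¹ᵁ V) := IsFinite.finite_app f V hV
  have hq := (isWeakAssPoint_iff_sections hF hW (show x ∈ f ⁻¹ᵁ V from hxV)).1 hx
  haveI : (hW.primeIdealOf ⟨x, hxV⟩).asIdeal.LiesOver (hV.primeIdealOf ⟨f x, hxV⟩).asIdeal :=
    ⟨(comap_primeIdeal f hV hW hxV).symm⟩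
  obtain ⟨n, hn⟩ := Triage.WeakAssFin.exists_minimal_under (A := Γ(S, V))
    (p := (hV.primeIdealOf ⟨f x, hxV⟩).asIdeal) hq
  exact isWeakAssPoint_push_of_minimal f hF hV hxV n hn

/-- Affine morphisms from locally Noetherian schemes send weakly associated points to such points. -/
theorem isWeakAssPoint_push_of_noetherian [IsAffineHom f] [IsLocallyNoetherian X] (hF : Coh.IsQCoh F) {x : X}
    (hx : Curv2.IsWeakAssPoint F x) : Curv2.IsWeakAssPoint ((Scheme.Modules.pushforward f).obj F) (f x) := by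
  obtain ⟨V, hV, hxV, -⟩ := exists_isAffineOpen_mem_and_subset (x := f x) (U := ⊤) trivial
  have hW : IsAffineOpen (f ⁻¹ᵁ V) := hV.preimage f
  haveI : IsNoetherianRing Γ(X, f ⁻¹ᵁ V) := IsLocallyNoetherian.component_noetherian ⟨_, hW⟩
  have hq := (isWeakAssPoint_iff_sections hF hW (show x ∈ f ⁻¹ᵁ V from hxV)).1 hx
  obtain ⟨-, n, hn⟩ := WeakAss.mem_ass_of_mem_weakAss_of_fg (IsNoetherian.noetherian _) hq
  refine isWeakAssPoint_push_of_minimal f hF hV hxV n ?_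
  rw [show WeakAss.annEl Γ(X, f ⁻¹ᵁ V) n = (hW.primeIdealOf ⟨x, hxV⟩).asIdeal from hn.symm,
    comap_primeIdeal f hV hW hxV, Ideal.minimalPrimes_eq_subsingleton_self]
  rfl

theorem eq_image_of_affine [IsAffineHom f] (hF : Coh.IsQCoh F)
    (h : ∀ x : X, Curv2.IsWeakAssPoint F x → Curv2.IsWeakAssPoint ((Scheme.Modules.pushforward f).obj F) (f x)) :
    {s : S | Curv2.IsWeakAssPoint ((Scheme.Modules.pushforward f).obj F) s} =
      (fun x => f x) '' {x : X | Curv2.IsWeakAssPoint F x} := by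
  ext s
  constructor
  · intro hs
    obtain ⟨x, hxs, hx⟩ := exists_weakAssPoint_of_pushforward f hF s hs
    exact ⟨x, hx, hxs⟩
  · rintro ⟨x, hx, rfl⟩
    exact h x hx

/-- Weakly associated points of a direct image lie in the image. -/
theorem mem_range_of_isWeakAssPoint [QuasiCompact f] [QuasiSeparated f] (hF : Coh.IsQCoh F) {s : S}
    (hs : Curv2.IsWeakAssPoint ((Scheme.Modules.pushforward f).obj F) s) : s ∈ Set.range f := by
  classical
  obtain ⟨V, hV, hsV, -⟩ := exists_isAffineOpen_mem_and_subset (x := s) (U := ⊤) trivial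
  obtain ⟨n', hn⟩ := WeakAss.mem_weakAss_iff.1
    ((isWeakAssPoint_iff_sections (QCoh.isQCoh_pushforward f hF) hV hsV).1 hs)
  let n : Γ(F, f ⁻¹ᵁ V) := n'
  obtain ⟨T, hT⟩ := (f.isCompact_preimage hV.isCompact).elim_finite_subcover
    (fun W : {W : X.affineOpens // W.1 ≤ f ⁻¹ᵁ V} => (W.1.1 : Set X)) (fun W => W.1.1.2) fun x hx => by
      obtain ⟨W, hW, hxW, hWV⟩ := exists_isAffineOpen_mem_and_subset (x := x) (U := f ⁻¹ᵁ V) hx
      exact Set.mem_iUnion.2 ⟨⟨⟨W, hW⟩, hWV⟩, hxW⟩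
  let J : {W : X.affineOpens // W.1 ≤ f ⁻¹ᵁ V} → Ideal Γ(S, V) := fun W =>
    (WeakAss.annEl Γ(X, W.1.1) (F.presheaf.map (homOfLE W.2).op n)).comap (f.appLE V W.1.1 W.2).hom
  have hle : T.inf J ≤ WeakAss.annEl Γ(S, V) n' := fun r hr => by
    have hr' : ∀ W ∈ T, f.appLE V W.1.1 W.2 r • F.presheaf.map (homOfLE W.2).op n = 0 := fun W hW =>
      WeakAss.mem_annEl.1 (Ideal.mem_comap.1 (Finset.inf_le (f := J) hW hr))
    rw [WeakAss.mem_annEl]
    show f.app V r • n = 0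
    refine QCoh.eq_zero_of_locally (M := F) (f ⁻¹ᵁ V) _ fun x hx => ?_
    obtain ⟨W, hW, hxW⟩ := Set.mem_iUnion₂.1 (hT hx)
    refine ⟨W.1.1, homOfLE W.2, hxW, ?_⟩
    rw [Scheme.Modules.map_smul]
    exact hr' W hW
  haveI := hn.1.1
  obtain ⟨W, hWT, hWle⟩ := ((inferInstance : (hV.primeIdealOf ⟨s, hsV⟩).asIdeal.IsPrime).inf_le').1
    (hle.trans hn.1.2)
  have hann : WeakAss.annEl Γ(S, V) n' ≤ J W := fun r hr => by
    rw [WeakAss.mem_annEl] at hr
    rw [Ideal.mem_comap, WeakAss.mem_annEl]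
    have e : F.presheaf.map (homOfLE W.2).op (f.app V r • n) = 0 := by
      rw [show f.app V r • n = (0 : Γ(F, f ⁻¹ᵁ V)) from hr, map_zero]
    rw [Scheme.Modules.map_smul] at e
    exact e
  have hmin : (hV.primeIdealOf ⟨s, hsV⟩).asIdeal ∈ (J W).minimalPrimes :=
    ⟨⟨inferInstance, hWle⟩, fun p' hp' hle' => hn.2 ⟨hp'.1, hann.trans hp'.2⟩ hle'⟩
  obtain ⟨q, hq, -, hqp⟩ := Ideal.exists_comap_eq_of_mem_minimalPrimes _ _ hmin
  obtain ⟨x, hx, hxq⟩ := QCoh.exists_point W.1.2 ⟨q, hq⟩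
  refine ⟨x, ?_⟩
  have h1 := IsAffineOpen.comap_primeIdealOf_appLE V hV W.1.1 W.1.2 W.2 hx
  have h2 : hV.primeIdealOf ⟨f x, W.2 hx⟩ = hV.primeIdealOf ⟨s, hsV⟩ := by
    rw [← h1, hxq]
    exact PrimeSpectrum.ext hqp
  have h3 := congrArg hV.fromSpec h2
  rwa [hV.fromSpec_primeIdealOf, hV.fromSpec_primeIdealOf] at h3

end Groth.Agent.AssPtX
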